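import Cfsg.Agent.Lib.SUDeg.Heis
import Cfsg.Agent.Lib.CrossChar.SL

/-!
The final bounds for `SU_n(q)`.
-/

set_option autoImplicit false
set_option linter.unusedSectionVars false
set_option linter.unusedVariables false
set_option linter.unusedSimpArgs false
set_option linter.ambiguousOpen false

namespace Cfsg.Agent.Lib.SUDeg.Final

open Module Matrix Cfsg.Agent.Lib.HermCount.Field Cfsg.Agent.Lib.SUDeg.Orbit Cfsg.Agent.Lib.SUDeg.Model
open Cfsg.Agent.Lib.WtSpace.Basic Cfsg.Agent.Lib.SUDeg.Main Cfsg.Agent.Lib.SUDeg.Heis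
open Cfsg.Agent.Lib.Classical.HermBasic Cfsg.Agent.Lib.Classical.HermElem Cfsg.Agent.Lib.Classical.HermBridge
open scoped _root_.Classical

attribute [-simp] frobHom_apply

variable {F : Type*} [Field F] [Fintype F] {q : ℕ} (hF : Fintype.card F = q ^ 2) {m ε : ℕ}

/-- An irreducible representation of dimension at least two is nontrivial. -/
theorem exists_ne_one_of_irr {G : Type*} [Group G] {k : ℕ} (ρ : Representation ℂ G (Fin k → ℂ)) (hirr : ρ.IsIrreducible)
    (hk : 2 ≤ k) : ∃ g, ρ g ≠ 1 := by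
  by_contra hcon
  push Not at hcon
  let e0 : Fin k → ℂ := Pi.single ⟨0, by omega⟩ 1
  have he0 : e0 ≠ 0 := by
    intro h
    have := congrFun h ⟨0, by omega⟩
    simp [e0] at this
  let L : Subrepresentation ρ := ⟨Submodule.span ℂ {e0}, fun g v hv => by
    rw [hcon g]; simpa using hv⟩
  have hL := hirr.eq_bot_or_eq_top L
  rcases hL with hL | hL
  · have h1 : L.toSubmodule = ⊥ := congrArg Subrepresentation.toSubmodule hL
    have h2 : e0 ∈ L.toSubmodule := Submodule.mem_span_singleton_self e0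
    rw [h1, Submodule.mem_bot] at h2
    exact he0 h2
  · have h1 : L.toSubmodule = ⊤ := congrArg Subrepresentation.toSubmodule hL
    have h2 : Module.finrank ℂ L.toSubmodule = 1 := finrank_span_singleton he0
    rw [h1, finrank_top] at h2
    simp at h2
    omega

/-- A nonzero skew-Hermitian matrix. -/
lemma exists_S1 (hm : 1 ≤ m) : ∃ S1 : Sk hF m, ∃ b : Fin m → F, S1.1 *ᵥ b ≠ 0 := by
  obtain ⟨c, hc0, hc⟩ := (invol_frob hF).exists_pure
  let i0 : Fin m := ⟨0, hm⟩
  refine ⟨⟨c • Mv hF (Pi.single i0 1), smul_Mv_mem hF ?_ _⟩, Pi.single i0 1, ?_⟩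
  · first
      | exact hc
      | linear_combination hc
  · intro h
    have := congrFun h i0
    simp [Matrix.mulVec, dotProduct, Mv, Matrix.smul_apply, Pi.single_apply] at this
    exact hc0 this

section Trans

variable {V : Type*} [AddCommGroup V] [Module ℂ V] {n : ℕ}
  (Θ : (Fin n → F) ≃ₗ[F] VV F m ε) (hΘ : ∀ x y, hJ hF (Θ x) (Θ y) = Cfsg.hermForm n F q x y)

/-- The `T_S` act nontrivially in a nontrivial representation. -/
theorem exists_TG_ne (hm : 1 ≤ m) (hn : 3 ≤ n) (h : ¬ (n = 3 ∧ q = 2))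
    (ρ : Cfsg.SU n F q →* Module.End ℂ V) (hρ : ∃ g, ρ g ≠ 1) :
    ∃ S1 : Sk hF m, ρ (toSU hF Θ hΘ (TG hF S1)) ≠ 1 := by
  obtain ⟨S1, b, hb⟩ := exists_S1 hF hm
  refine ⟨S1, fun hcon => ?_⟩
  obtain ⟨g, hg⟩ := hρ
  apply hg
  have hmem : toSU hF Θ hΘ (TG hF S1) ∈ ρ.ker := hcon
  have hnot : toSU hF Θ hΘ (TG hF S1) ∉ Subgroup.center (Cfsg.SU n F q) := by
    intro hc
    obtain ⟨a, ha⟩ := scalar_of_center hF Θ hΘ (by omega) hc
    have h1 := ha (0, b, 0)
    have h2 : (TG hF S1 : suGroup (hJ hF : VV F m ε → VV F m ε → F)).1 (0, b, 0) = TE S1.1 (0, b, 0) := rfl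
    rw [h2, TE_apply] at h1
    have h3 := congrArg Prod.fst h1
    apply hb
    simpa using h3
  have hperf : commutator (Cfsg.SU n F q) = ⊤ :=
    Cfsg.Agent.Lib.Classical.SympSimple.commutator_eq_top_of_mulEquiv (suEquiv n q)
      (Cfsg.Agent.Lib.Classical.HermSimple.commutator_eq_top (hform hF n) (invol_frob hF) (perfect_hyp hF hn h)
        (by rw [Module.finrank_fin_fun]; exact hn))
  have hK := eq_top_of_not_le_center (isSimpleGroup_PSU hF n hn h) hperf ρ.ker inferInstance hmem hnot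
  have : g ∈ ρ.ker := by
    rw [hK]
    trivial
  exact this

end Trans

/-- A character with `ψ 1 ≠ 1`. -/
lemma exists_psi : ∃ ψ : AddChar F ℂ, ψ 1 ≠ 1 := by
  obtain ⟨ψ, hψ⟩ := AddChar.exists_apply_ne_zero.mpr (one_ne_zero (α := F))
  exact ⟨ψ, hψ⟩

include hF in
/-- The even case. -/
theorem even_bound {n : ℕ} (hm : 2 ≤ m) (hn : 2 * m = n) {k : ℕ} (ρ : Representation ℂ (Cfsg.SU n F q) (Fin k → ℂ))
    (hirr : ρ.IsIrreducible) (hk : 2 ≤ k) : (q ^ n - 1) / (q + 1) ≤ k := by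
  obtain ⟨Θ, hΘ⟩ := exists_Theta (m := m) (ε := 0) hF (n := n) (by omega)
  obtain ⟨ψ, hψ⟩ := exists_psi (F := F)
  have hρ := exists_ne_one_of_irr ρ hirr hk
  obtain ⟨S1, hS1⟩ := exists_TG_ne hF Θ hΘ (by omega) (by omega) (by omega) ρ hρ
  let ρ' : suGroup (hJ hF : VV F m 0 → VV F m 0 → F) →* Module.End ℂ (Fin k → ℂ) :=
    MonoidHom.comp ρ (toSU hF Θ hΘ)
  obtain ⟨S0, hS0, hW⟩ := exists_WW_ne hF ρ' ψ hψ ⟨S1, hS1⟩
  let Γ : Subgroup (GL (Fin m) F) := (Matrix.GeneralLinearGroup.det (n := Fin m) (R := F)).ker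
  have hmemΓ : ∀ R : GL (Fin m) F, R ∈ Γ ↔ (R : Matrix (Fin m) (Fin m) F).det = 1 := by
    intro R
    simp only [Γ, MonoidHom.mem_ker, Units.ext_iff, Matrix.GeneralLinearGroup.val_det_apply, Units.val_one]
  have hd1 : 1 ≤ finrank ℂ (WW hF ρ' ψ S0) := by
    rw [Nat.one_le_iff_ne_zero, Ne, Submodule.finrank_eq_zero]
    exact hW
  have h := orbit_deg hF ρ' ψ hψ Γ ⟨0, by omega⟩ (by omega) (by
      intro v hv
      obtain ⟨h, hh⟩ := Cfsg.Agent.Lib.CrossChar.SL.exists_sl_mulVec (ι := Fin m) (F := F) (by simpa using hm) hv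
        (b' := Pi.single ⟨0, by omega⟩ 1) (by
          intro h0
          have := congrFun h0 ⟨0, by omega⟩
          simp at this)
      refine ⟨Matrix.GeneralLinearGroup.mkOfDetNeZero (h.1)ᵀ (by rw [Matrix.det_transpose, h.2]; exact one_ne_zero), ?_, ?_⟩
      · rw [hmemΓ]
        show ((h.1)ᵀ).det = 1
        rw [Matrix.det_transpose, h.2]
      · show v ᵥ* (h.1)ᵀ = _
        rw [Matrix.vecMul_transpose, hh])
    (by
      intro u hu
      rw [hmemΓ]
      exact det_Bu _ _ hu)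
    (by
      intro R hR
      rw [hmemΓ] at hR
      refine ⟨1, by simp, ?_⟩
      rw [hR]
      simp) hS0 hd1
  rw [finrank_fin_fun, mul_one, hn] at h
  exact Nat.div_le_of_le_mul h

include hF in
/-- The odd case. -/
theorem odd_bound {n : ℕ} (hm : 1 ≤ m) (hn : 2 * m + 1 = n) (hex : ¬ (n = 3 ∧ q = 2)) {k : ℕ}
    (ρ : Representation ℂ (Cfsg.SU n F q) (Fin k → ℂ))
    (hirr : ρ.IsIrreducible) (hk : 2 ≤ k) : (q ^ n - q) / (q + 1) ≤ k := by
  obtain ⟨Θ, hΘ⟩ := exists_Theta (m := m) (ε := 1) hF (n := n) (by omega)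
  obtain ⟨ψ, hψ⟩ := exists_psi (F := F)
  obtain ⟨a0, ha0⟩ := exists_a0 hF
  have hρ := exists_ne_one_of_irr ρ hirr hk
  obtain ⟨S1, hS1⟩ := exists_TG_ne hF Θ hΘ (by omega) (by omega) hex ρ hρ
  let ρ' : suGroup (hJ hF : VV F m 1 → VV F m 1 → F) →* Module.End ℂ (Fin k → ℂ) :=
    MonoidHom.comp ρ (toSU hF Θ hΘ)
  obtain ⟨S0, hS0, hW⟩ := exists_WW_ne hF ρ' ψ hψ ⟨S1, hS1⟩
  have hd1 : q ≤ finrank ℂ (WW hF ρ' ψ S0) := q_le_finrank hF ha0 ρ' ψ hψ hS0 hW
  have h := orbit_deg hF ρ' ψ hψ (⊤ : Subgroup (GL (Fin m) F)) ⟨0, by omega⟩ (by omega) (by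
      intro v hv
      by_cases hm2 : 2 ≤ m
      · obtain ⟨h, hh⟩ := Cfsg.Agent.Lib.CrossChar.SL.exists_sl_mulVec (ι := Fin m) (F := F) (by simpa using hm2) hv
          (b' := Pi.single ⟨0, by omega⟩ 1) (by
            intro h0
            have := congrFun h0 ⟨0, by omega⟩
            simp at this)
        refine ⟨Matrix.GeneralLinearGroup.mkOfDetNeZero (h.1)ᵀ (by rw [Matrix.det_transpose, h.2]; exact one_ne_zero), trivial, ?_⟩
        show v ᵥ* (h.1)ᵀ = _
        rw [Matrix.vecMul_transpose, hh]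
      · have hm1 : m = 1 := by omega
        subst hm1
        have hv0 : v 0 ≠ 0 := by
          intro h0
          apply hv
          funext i
          rw [Subsingleton.elim i 0, h0]
          rfl
        refine ⟨Matrix.GeneralLinearGroup.mkOfDetNeZero (Matrix.diagonal fun _ => (v 0)⁻¹)
          (by simp [Matrix.det_diagonal, hv0]), trivial, ?_⟩
        show v ᵥ* (Matrix.diagonal fun _ => (v 0)⁻¹) = _
        funext i
        rw [Subsingleton.elim i 0]
        simp [hv0])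
    (fun _ _ => trivial)
    (by
      intro R _
      have hdet : (R : Matrix (Fin m) (Fin m) F).det ≠ 0 := (Matrix.isUnits_det_units R).ne_zero
      have hs : frobHom hF (R : Matrix (Fin m) (Fin m) F).det ≠ 0 := by
        rw [Ne, map_eq_zero]
        exact hdet
      refine ⟨Units.mk0 (frobHom hF (R : Matrix (Fin m) (Fin m) F).det / (R : Matrix (Fin m) (Fin m) F).det) (div_ne_zero hs hdet), ?_, ?_⟩
      · have h3 : frobHom hF (frobHom hF (R : Matrix (Fin m) (Fin m) F).det) = (R : Matrix (Fin m) (Fin m) F).det := frob_frob hF _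
        simp only [Units.val_mk0, map_div₀, h3]
        field_simp
      · simp only [Units.val_mk0, pow_one]
        field_simp) hS0 hd1
  rw [finrank_fin_fun] at h
  apply Nat.div_le_of_le_mul
  have e : q ^ n - q = (q ^ (2 * m) - 1) * q := by
    rw [Nat.sub_mul, one_mul, ← hn, pow_succ]
  rw [e]
  exact h

end Cfsg.Agent.Lib.SUDeg.Final
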