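import Cfsg.Agent.Lib.SUDeg.Main

/-!
For `ε = 1` the Eichler elements give a Heisenberg group acting on each weight space: such a weight
space has dimension at least `q`.
-/

set_option autoImplicit false
set_option linter.unusedSectionVars false
set_option linter.unusedVariables false
set_option linter.unusedSimpArgs false
set_option linter.ambiguousOpen false

namespace Cfsg.Agent.Lib.SUDeg.Heis

open Module Matrix Cfsg.Agent.Lib.HermCount.Field Cfsg.Agent.Lib.SUDeg.Orbit Cfsg.Agent.Lib.SUDeg.Model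
open Cfsg.Agent.Lib.WtSpace.Basic Cfsg.Agent.Lib.SUDeg.Main
open Cfsg.Agent.Lib.Classical.HermBasic Cfsg.Agent.Lib.Classical.HermElem Cfsg.Agent.Lib.Classical.HermBridge
open scoped _root_.Classical

attribute [-simp] frobHom_apply

variable {F : Type*} [Field F] [Fintype F] {q : ℕ} (hF : Fintype.card F = q ^ 2) {m : ℕ}

/-- The isotropic vector of `v`. -/
noncomputable def eV (hF : Fintype.card F = q ^ 2) (v : Fin m → F) : VV F m 1 :=
  (fun i => frobHom hF (v i), 0, 0)

/-- The anisotropic vector. -/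
noncomputable def w0 (F : Type*) [Field F] (m : ℕ) : VV F m 1 := (0, 0, fun _ => 1)

/-- The linear form of `v`. -/
noncomputable def bet (v b : Fin m → F) : F := ∑ i, b i * v i

lemma hJ_eV (x : VV F m 1) (v : Fin m → F) : hJ hF x (eV hF v) = bet v x.2.1 := by
  have h : ∀ i, frobHom hF (frobHom hF (v i)) = v i := fun i => frob_frob hF _
  simp [hJ, eV, Model.sq, bet, h]

lemma hJ_w0 (x : VV F m 1) : hJ hF x (w0 F m) = x.2.2 0 := by
  simp [hJ, w0, Model.sq]

lemma exists_a0 : ∃ a : F, a + frobHom hF a + 1 = 0 := by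
  obtain ⟨s, hs⟩ := exists_trace hF (-1) (by
    have := map_neg (frobHom hF) (1 : F)
    rw [map_one] at this
    exact this)
  refine ⟨s, ?_⟩
  have : s + frobHom hF s = -1 := hs
  linear_combination this

lemma exists_tr1 : ∃ a : F, a + frobHom hF a = 1 := by
  obtain ⟨s, hs⟩ := exists_trace hF 1 (by
    have := map_one (frobHom hF)
    exact this)
  exact ⟨s, hs⟩

variable {a0 : F} (ha0 : a0 + frobHom hF a0 + 1 = 0)

include ha0

lemma exists_u (v : Fin m → F) : ∃ g, EichAt (frobHom hF) (hJ hF : VV F m 1 → VV F m 1 → F) (eV hF v) (w0 F m) a0 g := by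
  apply exists_eichAt (hJ_form hF)
  · rw [hJ_eV]
    simp [eV, bet]
  · rw [hJ_eV]
    simp [w0, bet]
  · rw [hJ_w0]
    simpa [w0] using ha0

/-- The element `u_v`. -/
noncomputable def uG (v : Fin m → F) : suGroup (hJ hF : VV F m 1 → VV F m 1 → F) :=
  ⟨Classical.choose (exists_u hF ha0 v), (Classical.choose_spec (exists_u hF ha0 v)).mem_suGroup (hJ_form hF)⟩

lemma uG_apply (v : Fin m → F) (x : VV F m 1) :
    (uG hF ha0 v).1 x = (x.1 + (a0 * bet v x.2.1 - x.2.2 0) • (fun i => frobHom hF (v i)), x.2.1,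
      x.2.2 + bet v x.2.1 • (fun _ => 1)) := by
  have H := (Classical.choose_spec (exists_u hF ha0 v)).apply x
  show (Classical.choose (exists_u hF ha0 v)) x = _
  rw [H, hJ_eV, hJ_w0]
  refine Prod.ext ?_ (Prod.ext ?_ ?_)
  · funext i
    simp [eV, w0]
    ring
  · simp [eV, w0]
  · simp [eV, w0]

lemma uG_zero : uG hF ha0 (0 : Fin m → F) = 1 := by
  apply Subtype.ext
  apply LinearEquiv.ext
  intro x
  rw [uG_apply]
  refine Prod.ext ?_ (Prod.ext rfl ?_)
  · funext i
    simp [bet]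
  · simp [bet]

lemma uG_comm_TG (v : Fin m → F) (S : Sk hF m) : uG hF ha0 v * TG hF S = TG hF S * uG hF ha0 v := by
  apply Subtype.ext
  apply LinearEquiv.ext
  intro x
  show (uG hF ha0 v).1 (TE S.1 x) = TE S.1 ((uG hF ha0 v).1 x)
  rw [uG_apply, uG_apply, TE_apply, TE_apply]
  refine Prod.ext ?_ rfl
  funext i
  simp only [Pi.add_apply]
  ring

/-- The parameter of the commutator. -/
noncomputable def kap (hF : Fintype.card F = q ^ 2) (a0 t s : F) : F :=
  frobHom hF a0 * frobHom hF t * s - a0 * t * frobHom hF s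

omit ha0 in
lemma kap_pure (t s : F) : frobHom hF (kap hF a0 t s) = - kap hF a0 t s := by
  have h : ∀ y, frobHom hF (frobHom hF y) = y := fun y => frob_frob hF _
  simp only [kap, map_sub, map_mul, h]
  ring

lemma kap_sub (t s : F) : kap hF a0 s t - kap hF a0 t s = frobHom hF t * s - frobHom hF s * t := by
  simp only [kap]
  linear_combination (frobHom hF s * t - frobHom hF t * s) * ha0

/-- The skew-Hermitian matrix of the commutator. -/
noncomputable def CC (hF : Fintype.card F = q ^ 2) (a0 : F) (v0 : Fin m → F) (t s : F) : Sk hF m :=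
  ⟨kap hF a0 t s • Mv hF v0, smul_Mv_mem hF (kap_pure hF t s) v0⟩

lemma uG_mul (v0 : Fin m → F) (t s : F) :
    uG hF ha0 (t • v0) * uG hF ha0 (s • v0) = TG hF (CC hF a0 v0 t s) * uG hF ha0 ((t + s) • v0) := by
  apply Subtype.ext
  apply LinearEquiv.ext
  intro x
  show (uG hF ha0 (t • v0)).1 ((uG hF ha0 (s • v0)).1 x) = TE (CC hF a0 v0 t s).1 ((uG hF ha0 ((t + s) • v0)).1 x)
  simp only [uG_apply, TE_apply]
  have hb : ∀ (r : F) (b : Fin m → F), bet (r • v0) b = r * bet v0 b := by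
    intro r b
    simp only [bet, Pi.smul_apply, smul_eq_mul, Finset.mul_sum]
    refine Finset.sum_congr rfl fun i _ => ?_
    ring
  have hC : ∀ (b : Fin m → F) (i : Fin m), ((CC hF a0 v0 t s).1 *ᵥ b) i = kap hF a0 t s * frobHom hF (v0 i) * bet v0 b := by
    intro b i
    simp only [CC, Matrix.mulVec, dotProduct, Mv, Matrix.smul_apply, Matrix.of_apply, smul_eq_mul, bet,
      Finset.mul_sum]
    refine Finset.sum_congr rfl fun j _ => ?_
    ring
  refine Prod.ext ?_ (Prod.ext rfl ?_)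
  · funext i
    simp only [Pi.add_apply, Pi.smul_apply, smul_eq_mul, hb, hC, map_add, map_mul, kap]
    linear_combination (- s * frobHom hF t * frobHom hF (v0 i) * bet v0 x.2.1) * ha0
  · funext i
    simp only [Pi.add_apply, Pi.smul_apply, smul_eq_mul, hb]
    ring

section Rep

variable {V : Type*} [AddCommGroup V] [Module ℂ V] [FiniteDimensional ℂ V]
variable (ρ : suGroup (hJ hF : VV F m 1 → VV F m 1 → F) →* Module.End ℂ V) (ψ : AddChar F ℂ) (hψ : ψ 1 ≠ 1)

include hψ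

lemma rho_u_mem {S : Sk hF m} (v : Fin m → F) {x : V} (hx : x ∈ WW hF ρ ψ S) : ρ (uG hF ha0 v) x ∈ WW hF ρ ψ S := by
  rw [mem_WW hF ρ ψ hψ] at hx ⊢
  intro c
  have : ρ (TG hF c) (ρ (uG hF ha0 v) x) = ρ (uG hF ha0 v) (ρ (TG hF c) x) := by
    show (ρ (TG hF c) * ρ (uG hF ha0 v)) x = (ρ (uG hF ha0 v) * ρ (TG hF c)) x
    rw [← map_mul, ← map_mul, uG_comm_TG]
  rw [this, hx c, map_smul]

/-- The Heisenberg operators on a weight space. -/
noncomputable def piU (S0 : Sk hF m) (v0 : Fin m → F) (t : F) : Module.End ℂ (WW hF ρ ψ S0) :=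
  (ρ (uG hF ha0 (t • v0))).restrict (fun _ hx => rho_u_mem hF ha0 ρ ψ hψ _ hx)

lemma piU_apply (S0 : Sk hF m) (v0 : Fin m → F) (t : F) (x : WW hF ρ ψ S0) :
    (piU hF ha0 ρ ψ hψ S0 v0 t x : V) = ρ (uG hF ha0 (t • v0)) x := rfl

lemma piU_zero (S0 : Sk hF m) (v0 : Fin m → F) : piU hF ha0 ρ ψ hψ S0 v0 0 = 1 := by
  apply LinearMap.ext
  intro x
  apply Subtype.ext
  rw [piU_apply, zero_smul, uG_zero, map_one]
  rfl

lemma piU_mul (S0 : Sk hF m) (v0 : Fin m → F) (t s : F) :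
    piU hF ha0 ρ ψ hψ S0 v0 t * piU hF ha0 ρ ψ hψ S0 v0 s =
      ψ (kap hF a0 t s * Phi hF S0.1 v0 v0) • piU hF ha0 ρ ψ hψ S0 v0 (t + s) := by
  apply LinearMap.ext
  intro x
  apply Subtype.ext
  show ρ (uG hF ha0 (t • v0)) (ρ (uG hF ha0 (s • v0)) x) = ψ (kap hF a0 t s * Phi hF S0.1 v0 v0) • ρ (uG hF ha0 ((t + s) • v0)) x
  have h1 : ρ (uG hF ha0 (t • v0)) (ρ (uG hF ha0 (s • v0)) x) =
      ρ (TG hF (CC hF a0 v0 t s)) (ρ (uG hF ha0 ((t + s) • v0)) x) := by
    show (ρ (uG hF ha0 (t • v0)) * ρ (uG hF ha0 (s • v0))) x = (ρ (TG hF (CC hF a0 v0 t s)) * ρ (uG hF ha0 ((t + s) • v0))) x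
    rw [← map_mul, ← map_mul, uG_mul]
  have h2 := (mem_WW hF ρ ψ hψ).mp (rho_u_mem hF ha0 ρ ψ hψ ((t + s) • v0) x.2) (CC hF a0 v0 t s)
  rw [h1, h2]
  congr 2
  show (S0.1 * (kap hF a0 t s • Mv hF v0)).trace = _
  rw [Matrix.mul_smul, Matrix.trace_smul, trace_mul_Mv, smul_eq_mul]

/-- A nonzero weight space has dimension at least `q`. -/
theorem q_le_finrank {S0 : Sk hF m} (h0 : S0 ≠ 0) (hW : WW hF ρ ψ S0 ≠ ⊥) : q ≤ finrank ℂ (WW hF ρ ψ S0) := by
  have hS0ne : S0.1 ≠ 0 := fun h => h0 (Subtype.ext h)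
  obtain ⟨v0, hv0⟩ := exists_Phi_ne hF S0.2 hS0ne
  set c1 := Phi hF S0.1 v0 v0 with hc1
  have hp : frobHom hF c1 = - c1 := by
    linear_combination Phi_self_pure hF S0.2 v0
  have : Nontrivial (WW hF ρ ψ S0) := Submodule.nontrivial_iff_ne_bot.mpr hW
  obtain ⟨r, hr⟩ := exists_tr1 hF
  have hne : ∀ y, ψ y ≠ 0 := fun y => (AddChar.val_isUnit ψ y).ne_zero
  have h := heis_card_le (B := F) (piU hF ha0 ρ ψ hψ S0 v0) (fun t s => ψ (kap hF a0 t s * c1))
    (piU_zero hF ha0 ρ ψ hψ S0 v0) (piU_mul hF ha0 ρ ψ hψ S0 v0) (fun _ _ => hne _) (by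
      intro t ht
      have hσt : frobHom hF t ≠ 0 := by
        rw [Ne, map_eq_zero]
        exact ht
      refine ⟨r * c1⁻¹ * (frobHom hF t)⁻¹, ψ 1, hψ, ?_⟩
      set s := r * c1⁻¹ * (frobHom hF t)⁻¹ with hs
      rw [piU_mul, piU_mul, add_comm s t, smul_smul, ← AddChar.map_add_eq_mul]
      congr 2
      have h1 : frobHom hF t * s = r * c1⁻¹ := by
        rw [hs]
        field_simp
      have h2 : frobHom hF s * t = - (frobHom hF r * c1⁻¹) := by
        have h3 : frobHom hF (frobHom hF t) = t := frob_frob hF _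
        rw [hs, map_mul, map_mul, map_inv₀, map_inv₀, h3, hp]
        field_simp
      have h4 := kap_sub hF ha0 t s
      rw [h1, h2] at h4
      have h5 : kap hF a0 s t = kap hF a0 t s + (r + frobHom hF r) * c1⁻¹ := by
        linear_combination h4
      rw [h5, hr]
      field_simp
      ring)
  rw [hF] at h
  by_contra hcon
  push Not at hcon
  have : finrank ℂ (WW hF ρ ψ S0) * finrank ℂ (WW hF ρ ψ S0) < q ^ 2 := by
    nlinarith
  omega

end Rep

end Cfsg.Agent.Lib.SUDeg.Heis
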