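import Cfsg.Agent.Lib.SUDeg.Model

/-!
The degree bound for `SU_n(q)`: weights of the abelian group of the `T_S`, the orbit of a nonzero weight,
the Heisenberg groups on the weight spaces for `n` odd.
-/

set_option autoImplicit false
set_option linter.unusedSectionVars false
set_option linter.unusedVariables false
set_option linter.unusedSimpArgs false
set_option linter.ambiguousOpen false

namespace Cfsg.Agent.Lib.SUDeg.Main

open Module Matrix Cfsg.Agent.Lib.HermCount.Field Cfsg.Agent.Lib.SUDeg.Orbit Cfsg.Agent.Lib.SUDeg.Model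
open Cfsg.Agent.Lib.WtSpace.Basic
open Cfsg.Agent.Lib.Classical.HermBasic Cfsg.Agent.Lib.Classical.HermElem Cfsg.Agent.Lib.Classical.HermBridge
open scoped _root_.Classical

attribute [-simp] frobHom_apply

variable {F : Type*} [Field F] [Fintype F] {q : ℕ} (hF : Fintype.card F = q ^ 2) {m ε : ℕ}

noncomputable instance skFintype : Fintype (Sk hF m) := Fintype.ofFinite _

/-- The rank one Hermitian matrix of a vector. -/
noncomputable def Mv (hF : Fintype.card F = q ^ 2) (v : Fin m → F) : Matrix (Fin m) (Fin m) F :=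
  Matrix.of fun i j => frobHom hF (v i) * v j

lemma trace_mul_Mv (S : Matrix (Fin m) (Fin m) F) (v : Fin m → F) :
    (S * Mv hF v).trace = Phi hF S v v := by
  simp only [Matrix.trace, Matrix.diag, Matrix.mul_apply, Mv, Matrix.of_apply, Phi_apply]
  refine Finset.sum_congr rfl fun i _ => Finset.sum_congr rfl fun j _ => ?_
  ring

lemma smul_Mv_mem {κ : F} (hκ : frobHom hF κ = -κ) (v : Fin m → F) : κ • Mv hF v ∈ Sk hF m := by
  rw [mem_Sk]
  intro i j
  have h : frobHom hF (frobHom hF (v j)) = v j := frob_frob hF _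
  simp only [Matrix.smul_apply, Mv, Matrix.of_apply, smul_eq_mul, map_mul, hκ, h]
  ring

lemma exists_tr_one {S : Matrix (Fin m) (Fin m) F} (hS : S ∈ Sk hF m) (h0 : S ≠ 0) :
    ∃ S' ∈ Sk hF m, (S' * S).trace = 1 := by
  obtain ⟨v, hv⟩ := exists_Phi_ne hF hS h0
  have hp : frobHom hF (Phi hF S v v) = - Phi hF S v v := by
    linear_combination Phi_self_pure hF hS v
  have hp2 : frobHom hF ((Phi hF S v v)⁻¹) = - (Phi hF S v v)⁻¹ := by
    rw [map_inv₀, hp, inv_neg]
  refine ⟨_, smul_Mv_mem hF hp2 v, ?_⟩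
  rw [Matrix.trace_mul_comm, Matrix.mul_smul, Matrix.trace_smul, trace_mul_Mv, smul_eq_mul, inv_mul_cancel₀ hv]

/-- The pairing of the weights. -/
noncomputable def pp (hF : Fintype.card F = q ^ 2) (ψ : AddChar F ℂ) (x a : Sk hF m) : ℂ := ψ ((x.1 * a.1).trace)

lemma pp_pairing (ψ : AddChar F ℂ) (hψ : ψ 1 ≠ 1) : Pairing (pp hF ψ (m := m)) where
  add x a b := by
    simp only [pp, AddSubgroup.coe_add, Matrix.mul_add, Matrix.trace_add, AddChar.map_add_eq_mul]
  zero x := by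
    simp [pp]
  orth a ha := by
    obtain ⟨S', hS', htr⟩ := exists_tr_one hF a.2 (fun h => ha (Subtype.ext h))
    have h := Equiv.sum_comp (Equiv.addRight (⟨S', hS'⟩ : Sk hF m)) (fun x => pp hF ψ x a)
    have h2 : ∀ x : Sk hF m, pp hF ψ (Equiv.addRight (⟨S', hS'⟩ : Sk hF m) x) a = pp hF ψ x a * ψ 1 := by
      intro x
      simp only [pp, Equiv.coe_addRight, AddSubgroup.coe_add, Matrix.add_mul, Matrix.trace_add,
        AddChar.map_add_eq_mul, htr]
    simp only [h2, ← Finset.sum_mul] at h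
    have h3 : (∑ x : Sk hF m, pp hF ψ x a) * (ψ 1 - 1) = 0 := by
      linear_combination h
    exact (mul_eq_zero.mp h3).resolve_right (sub_ne_zero.mpr hψ)
  card := rfl

section Rep

variable {V : Type*} [AddCommGroup V] [Module ℂ V] [FiniteDimensional ℂ V]
variable (ρ : suGroup (hJ hF : VV F m ε → VV F m ε → F) →* Module.End ℂ V) (ψ : AddChar F ℂ)

/-- The operators `T_S`. -/
noncomputable def tt (S : Sk hF m) : Module.End ℂ V := ρ (TG hF S)

lemma tt_add (S S' : Sk hF m) : tt hF ρ (S + S') = tt hF ρ S * tt hF ρ S' := by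
  simp only [tt, TG_add, map_mul]

lemma tt_zero : tt hF ρ (0 : Sk hF m) = 1 := by
  simp only [tt, TG_zero, map_one]

/-- The weight spaces. -/
noncomputable def WW (S : Sk hF m) : Submodule ℂ V :=
  LinearMap.range (ee (pp hF ψ) (tt hF ρ) S)

variable (hψ : ψ 1 ≠ 1)

include hψ

lemma mem_WW {S : Sk hF m} {v : V} : v ∈ WW hF ρ ψ S ↔ ∀ c : Sk hF m, ρ (TG hF c) v = ψ ((S.1 * c.1).trace) • v :=
  mem_range_ee (pp_pairing hF ψ hψ) (tt_add hF ρ) (tt_zero hF ρ)

/-- There is a nonzero weight when the `T_S` do not act trivially. -/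
lemma exists_WW_ne (h1 : ∃ S1 : Sk hF m, ρ (TG hF S1) ≠ 1) :
    ∃ S0 : Sk hF m, S0 ≠ 0 ∧ WW hF ρ ψ S0 ≠ ⊥ := by
  by_contra hcon
  push Not at hcon
  obtain ⟨S1, hS1⟩ := h1
  apply hS1
  apply LinearMap.ext
  intro v
  have := tau_of_zero (pp_pairing hF ψ hψ) (tt_add hF ρ) (tt_zero hF ρ) (x₀ := (0 : Sk hF m))
    (fun x hx => hcon x hx) S1 v
  simpa [tt, pp] using this

lemma inj_rho (g : suGroup (hJ hF : VV F m ε → VV F m ε → F)) : Function.Injective (ρ g) := by
  have h : ∀ x, ρ g⁻¹ (ρ g x) = x := by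
    intro x
    have : ρ g⁻¹ * ρ g = 1 := by rw [← map_mul, inv_mul_cancel, map_one]
    exact LinearMap.congr_fun this x
  exact Function.LeftInverse.injective h

/-- The Levi element shifts the weight spaces. -/
lemma map_WW (R : GL (Fin m) F) (d : Fˣ) (hd : (d : F) * frobHom hF (d : F) = 1)
    (hdet : (R : Matrix (Fin m) (Fin m) F).det * (d : F) ^ ε = frobHom hF (R : Matrix (Fin m) (Fin m) F).det)
    {S : Sk hF m} {S' : Sk hF m} (hS' : S'.1 = act hF (R : Matrix (Fin m) (Fin m) F) S.1) {v : V} (hv : v ∈ WW hF ρ ψ S) :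
    ρ (LG hF R d hd hdet) v ∈ WW hF ρ ψ S' := by
  rw [mem_WW hF ρ ψ hψ] at hv ⊢
  intro c
  -- the preimage of `c`
  let c' : Sk hF m := ⟨act hF (dg hF (R : Matrix (Fin m) (Fin m) F)) c.1, act_mem hF c.2 _⟩
  have h1 : act hF ((dgG hF R : GL (Fin m) F) : Matrix (Fin m) (Fin m) F) c'.1 = c.1 := by
    show act hF _ (act hF _ c.1) = c.1
    rw [act_act, coe_dgG, ← dg_mul, ← Units.val_mul, mul_inv_cancel, Units.val_one, dg_one, act_one]
  have h2 : LG hF R d hd hdet * TG hF c' = TG hF c * LG hF R d hd hdet := by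
    apply Subtype.ext
    apply LinearEquiv.ext
    intro x
    show gL hF R d (TE c'.1 x) = TE c.1 (gL hF R d x)
    rw [gL_TE, h1]
  have h3 := hv c'
  calc ρ (TG hF c) (ρ (LG hF R d hd hdet) v) = (ρ (TG hF c) * ρ (LG hF R d hd hdet)) v := rfl
    _ = (ρ (LG hF R d hd hdet) * ρ (TG hF c')) v := by rw [← map_mul, ← map_mul, h2]
    _ = ρ (LG hF R d hd hdet) (ρ (TG hF c') v) := rfl
    _ = ψ ((S.1 * c'.1).trace) • ρ (LG hF R d hd hdet) v := by rw [h3, map_smul]
    _ = ψ ((S'.1 * c.1).trace) • ρ (LG hF R d hd hdet) v := by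
      congr 2
      rw [hS']
      show (S.1 * act hF _ c.1).trace = (act hF _ S.1 * c.1).trace
      simp only [act, dg_dg]
      rw [← Matrix.mul_assoc, Matrix.trace_mul_comm, ← Matrix.mul_assoc, ← Matrix.mul_assoc]

/-- The orbit bound for a representation. -/
theorem orbit_deg (Γ : Subgroup (GL (Fin m) F)) (i0 : Fin m) (hm : 1 ≤ m)
    (htrans : ∀ v : Fin m → F, v ≠ 0 → ∃ R ∈ Γ, v ᵥ* (R : Matrix (Fin m) (Fin m) F) = Pi.single i0 1)
    (huni : ∀ (u : Fin m → F) (hu : u i0 = 0), BuG i0 u hu ∈ Γ)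
    (hΓ : ∀ R ∈ Γ, ∃ (d : Fˣ), (d : F) * frobHom hF (d : F) = 1 ∧
      (R : Matrix (Fin m) (Fin m) F).det * (d : F) ^ ε = frobHom hF (R : Matrix (Fin m) (Fin m) F).det)
    {S0 : Sk hF m} (h0 : S0 ≠ 0) {d' : ℕ} (hd' : d' ≤ finrank ℂ (WW hF ρ ψ S0)) :
    (q ^ (2 * m) - 1) * d' ≤ (q + 1) * finrank ℂ V := by
  have hS0ne : S0.1 ≠ 0 := fun h => h0 (Subtype.ext h)
  have h1 := orbit_bound hF Γ i0 hm htrans huni S0.2 hS0ne
  let s : Finset (Sk hF m) := Finset.univ.filter (fun x => x.1 ∈ orb hF Γ S0.1)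
  have h2 : (orb hF Γ S0.1).card ≤ s.card := by
    have : orb hF Γ S0.1 ⊆ s.image Subtype.val := by
      intro S hS
      rw [Finset.mem_image]
      have hS' := hS
      rw [mem_orb] at hS'
      obtain ⟨R, hR, rfl⟩ := hS'
      exact ⟨⟨_, act_mem hF S0.2 _⟩, by simp [s, hS], rfl⟩
    exact (Finset.card_le_card this).trans Finset.card_image_le
  have h3 : s.card * d' ≤ finrank ℂ V := by
    apply card_mul_le (pp_pairing hF ψ hψ) (tt_add hF ρ) (tt_zero hF ρ) s d'
    intro x hx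
    refine hd'.trans ?_
    have hx' : x.1 ∈ orb hF Γ S0.1 := by
      simpa [s] using hx
    rw [mem_orb] at hx'
    obtain ⟨R, hR, hRx⟩ := hx'
    obtain ⟨d, hd, hdet⟩ := hΓ R hR
    exact finrank_le_of_map (inj_rho hF ρ ψ hψ (LG hF R d hd hdet))
      (fun v hv => map_WW hF ρ ψ hψ R d hd hdet hRx hv)
  calc (q ^ (2 * m) - 1) * d' ≤ ((orb hF Γ S0.1).card * (q + 1)) * d' := Nat.mul_le_mul_right _ h1
    _ ≤ (s.card * (q + 1)) * d' := Nat.mul_le_mul_right _ (Nat.mul_le_mul_right _ h2)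
    _ = (q + 1) * (s.card * d') := by ring
    _ ≤ (q + 1) * finrank ℂ V := Nat.mul_le_mul_left _ h3

end Rep

end Cfsg.Agent.Lib.SUDeg.Main
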