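import Cfsg.Agent.Lib.SUDeg.Orbit
import Cfsg.Agent.Lib.Classical.HermBridge
import Cfsg.Agent.Lib.Witt.HermModel
import Cfsg.Agent.Lib.WtSpace.Basic

/-!
The model of `SU_n(q)` preserving the form `a·σ b' + b·σ a' + c·σ c'` on `F^m × F^m × F^ε`: the abelian
subgroup `T_S` for `S` skew-Hermitian, the Levi elements, and (for `ε = 1`) the Eichler elements.
-/

set_option autoImplicit false
set_option linter.unusedSectionVars false
set_option linter.unusedVariables false
set_option linter.unusedSimpArgs false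

namespace Cfsg.Agent.Lib.SUDeg.Model

open Module Matrix Cfsg.Agent.Lib.HermCount.Field Cfsg.Agent.Lib.SUDeg.Orbit
open Cfsg.Agent.Lib.Classical.HermBasic Cfsg.Agent.Lib.Classical.HermElem Cfsg.Agent.Lib.Classical.HermBridge
open Cfsg.Agent.Lib.Classical.MatrixBridge
open scoped Classical

attribute [-simp] frobHom_apply

variable {F : Type*} [Field F] [Fintype F] {q : ℕ} (hF : Fintype.card F = q ^ 2) {m ε : ℕ}

/-- The space. -/
abbrev VV (F : Type*) (m ε : ℕ) := (Fin m → F) × (Fin m → F) × (Fin ε → F)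

/-- The standard sesquilinear form. -/
def sq (hF : Fintype.card F = q ^ 2) {k : ℕ} (a b : Fin k → F) : F := ∑ i, a i * frobHom hF (b i)

lemma sq_add_left {k : ℕ} (a a' b : Fin k → F) : sq hF (a + a') b = sq hF a b + sq hF a' b := by
  simp only [sq, Pi.add_apply, add_mul, Finset.sum_add_distrib]

lemma sq_add_right {k : ℕ} (a b b' : Fin k → F) : sq hF a (b + b') = sq hF a b + sq hF a b' := by
  simp only [sq, Pi.add_apply, map_add, mul_add, Finset.sum_add_distrib]

lemma sq_smul_left {k : ℕ} (t : F) (a b : Fin k → F) : sq hF (t • a) b = t * sq hF a b := by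
  simp only [sq, Pi.smul_apply, smul_eq_mul, Finset.mul_sum, mul_assoc]

lemma sq_smul_right {k : ℕ} (t : F) (a b : Fin k → F) : sq hF a (t • b) = frobHom hF t * sq hF a b := by
  simp only [sq, Pi.smul_apply, smul_eq_mul, Finset.mul_sum, map_mul]
  refine Finset.sum_congr rfl fun i _ => ?_
  ring

lemma sq_conj {k : ℕ} (a b : Fin k → F) : sq hF b a = frobHom hF (sq hF a b) := by
  simp only [sq, map_sum, map_mul]
  refine Finset.sum_congr rfl fun i _ => ?_
  have : frobHom hF (frobHom hF (b i)) = b i := frob_frob hF _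
  rw [this, mul_comm]

lemma sq_single {k : ℕ} (a : Fin k → F) (i : Fin k) : sq hF a (Pi.single i 1) = a i := by
  rw [sq, Finset.sum_eq_single i]
  · simp
  · intro j _ hj
    simp [hj]
  · simp

lemma sq_zero_right {k : ℕ} (a : Fin k → F) : sq hF a 0 = 0 := by
  simp [sq]

lemma sq_zero_left {k : ℕ} (a : Fin k → F) : sq hF 0 a = 0 := by
  simp [sq]

lemma sq_mulVec {k : ℕ} (M : Matrix (Fin k) (Fin k) F) (a b : Fin k → F) :
    sq hF (M *ᵥ a) b = sq hF a (dg hF M *ᵥ b) := by
  simp only [sq, mulVec, dotProduct, map_sum, map_mul, dg_apply, Finset.sum_mul, Finset.mul_sum]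
  rw [Finset.sum_comm]
  refine Finset.sum_congr rfl fun i _ => Finset.sum_congr rfl fun j _ => ?_
  have : frobHom hF (frobHom hF (M j i)) = M j i := frob_frob hF _
  rw [this]
  ring

lemma sq_mulVec_right {k : ℕ} (M : Matrix (Fin k) (Fin k) F) (a b : Fin k → F) :
    sq hF a (M *ᵥ b) = sq hF (dg hF M *ᵥ a) b := by
  rw [sq_mulVec, dg_dg]

/-- The form. -/
def hJ (hF : Fintype.card F = q ^ 2) (x y : VV F m ε) : F :=
  sq hF x.1 y.2.1 + sq hF x.2.1 y.1 + sq hF x.2.2 y.2.2

lemma hJ_nd (x : VV F m ε) (h : ∀ y, hJ hF x y = 0) : x = 0 := by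
  obtain ⟨a, b, c⟩ := x
  refine Prod.ext ?_ (Prod.ext ?_ ?_)
  · funext i
    have := h (0, Pi.single i 1, 0)
    simpa [hJ, sq_single, sq_zero_right] using this
  · funext i
    have := h (Pi.single i 1, 0, 0)
    simpa [hJ, sq_single, sq_zero_right] using this
  · funext i
    have := h (0, 0, Pi.single i 1)
    simpa [hJ, sq_single, sq_zero_right] using this

/-- The form is Hermitian. -/
theorem hJ_form : HForm (frobHom hF) (hJ hF : VV F m ε → VV F m ε → F) where
  add_left x y z := by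
    simp only [hJ, Prod.fst_add, Prod.snd_add, sq_add_left]
    ring
  smul_left t x z := by
    simp only [hJ, Prod.smul_fst, Prod.smul_snd, sq_smul_left]
    ring
  conj x y := by
    simp only [hJ, map_add, ← sq_conj]
    ring
  nd := hJ_nd hF

theorem hJ_space : Cfsg.Agent.Lib.HermCount.Space.HSpace q (hJ hF : VV F m ε → VV F m ε → F) where
  add_left := (hJ_form hF).add_left
  smul_left := (hJ_form hF).smul_left
  conj := (hJ_form hF).conj
  nd := hJ_nd hF

lemma finrank_VV : finrank F (VV F m ε) = 2 * m + ε := by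
  simp only [Module.finrank_prod, Module.finrank_fin_fun]
  ring

theorem exists_Theta {n : ℕ} (hn : 2 * m + ε = n) :
    ∃ Θ : (Fin n → F) ≃ₗ[F] VV F m ε, ∀ x y, hJ hF (Θ x) (Θ y) = Cfsg.hermForm n F q x y :=
  Cfsg.Agent.Lib.Witt.HermModel.exists_model (hJ_space hF) hF n (by rw [finrank_VV, hn])

/-! ### The transfer to `SU_n` -/

section Transfer

variable {n : ℕ} (Θ : (Fin n → F) ≃ₗ[F] VV F m ε) (hΘ : ∀ x y, hJ hF (Θ x) (Θ y) = Cfsg.hermForm n F q x y)

include hΘ

/-- Conjugation by `Θ`. -/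
noncomputable def conjHom : suGroup (hJ hF : VV F m ε → VV F m ε → F) →* suGroup (Cfsg.hermForm n F q) where
  toFun g := ⟨Θ.trans (g.1.trans Θ.symm), by
    rw [mem_suGroup]
    constructor
    · intro x y
      have h1 : ∀ z, Θ ((Θ.trans (g.1.trans Θ.symm)) z) = g.1 (Θ z) := by
        intro z
        simp
      rw [← hΘ, h1, h1, ← hΘ]
      exact ((mem_suGroup.mp g.2).1) _ _
    · have h1 := (mem_suGroup.mp g.2).2
      have h2 := LinearMap.det_conj (g.1 : VV F m ε →ₗ[F] VV F m ε) Θ.symm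
      rw [h1] at h2
      rw [← h2]
      congr 1⟩
  map_one' := by
    apply Subtype.ext
    ext x
    simp
  map_mul' a b := by
    apply Subtype.ext
    ext x
    simp

lemma conjHom_apply (g : suGroup (hJ hF : VV F m ε → VV F m ε → F)) (x : Fin n → F) :
    Θ ((conjHom hF Θ hΘ g).1 x) = g.1 (Θ x) := by
  show Θ ((Θ.trans (g.1.trans Θ.symm)) x) = _
  simp

/-- The map to `SU`. -/
noncomputable def toSU : suGroup (hJ hF : VV F m ε → VV F m ε → F) →* Cfsg.SU n F q :=
  (suEquiv n q).symm.toMonoidHom.comp (conjHom hF Θ hΘ)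

lemma suEquiv_toSU (g : suGroup (hJ hF : VV F m ε → VV F m ε → F)) :
    suEquiv n q (toSU hF Θ hΘ g) = conjHom hF Θ hΘ g := by
  simp [toSU]

/-- A central element is a scalar. -/
theorem scalar_of_center (hn : 2 ≤ n) {g : suGroup (hJ hF : VV F m ε → VV F m ε → F)}
    (hg : toSU hF Θ hΘ g ∈ Subgroup.center (Cfsg.SU n F q)) :
    ∃ a : F, ∀ x, g.1 x = a • x := by
  have h1 : suEquiv n q (toSU hF Θ hΘ g) ∈ Subgroup.center (suGroup (Cfsg.hermForm n F q)) := by
    rw [Subgroup.mem_center_iff] at hg ⊢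
    intro k
    have := hg ((suEquiv n q).symm k)
    have h2 := congrArg (suEquiv n q) this
    simpa using h2
  rw [suEquiv_toSU] at h1
  obtain ⟨a, ha⟩ := Cfsg.Agent.Lib.Classical.HermSimple.scalar_of_mem_center (hform hF n) (invol_frob hF)
    (by rw [Module.finrank_fin_fun]; exact hn) h1
  refine ⟨a, fun x => ?_⟩
  have h3 := conjHom_apply hF Θ hΘ g (Θ.symm x)
  rw [ha, map_smul] at h3
  simpa using h3.symm

end Transfer

/-! ### The elements `T_S` -/

/-- The transformation `T_S`. -/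
noncomputable def TE (S : Matrix (Fin m) (Fin m) F) : VV F m ε ≃ₗ[F] VV F m ε where
  toFun x := (x.1 + S *ᵥ x.2.1, x.2.1, x.2.2)
  invFun x := (x.1 - S *ᵥ x.2.1, x.2.1, x.2.2)
  map_add' x y := by
    refine Prod.ext ?_ (Prod.ext rfl rfl)
    simp only [Prod.fst_add, Prod.snd_add, mulVec_add]
    abel
  map_smul' t x := by
    refine Prod.ext ?_ (Prod.ext rfl rfl)
    simp only [Prod.smul_fst, Prod.smul_snd, mulVec_smul, RingHom.id_apply, smul_add]
  left_inv x := by
    refine Prod.ext ?_ (Prod.ext rfl rfl)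
    simp
  right_inv x := by
    refine Prod.ext ?_ (Prod.ext rfl rfl)
    simp

lemma TE_apply (S : Matrix (Fin m) (Fin m) F) (x : VV F m ε) :
    (TE S x : VV F m ε) = (x.1 + S *ᵥ x.2.1, x.2.1, x.2.2) := rfl

lemma TE_mul (S S' : Matrix (Fin m) (Fin m) F) :
    (TE S * TE S' : VV F m ε ≃ₗ[F] VV F m ε) = TE (S + S') := by
  apply LinearEquiv.ext
  intro x
  refine Prod.ext ?_ rfl
  simp only [LinearEquiv.mul_apply, TE_apply, add_mulVec]
  abel

lemma TE_zero : (TE 0 : VV F m ε ≃ₗ[F] VV F m ε) = 1 := by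
  ext x <;> simp [TE_apply]

lemma TE_pow (S : Matrix (Fin m) (Fin m) F) (k : ℕ) :
    (TE S ^ k : VV F m ε ≃ₗ[F] VV F m ε) = TE (k • S) := by
  induction k with
  | zero => simp [TE_zero]
  | succ k ih =>
    rw [pow_succ, ih, TE_mul, succ_nsmul]

lemma TE_det (S : Matrix (Fin m) (Fin m) F) :
    LinearMap.det ((TE S : VV F m ε ≃ₗ[F] VV F m ε) : VV F m ε →ₗ[F] VV F m ε) = 1 := by
  obtain ⟨p, hp⟩ := CharP.exists F
  have hpp : p.Prime := by
    rcases CharP.char_is_prime_or_zero F p with h | h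
    · exact h
    · exfalso
      subst h
      haveI := CharP.charP_to_charZero F
      exact (Infinite.not_finite (α := F)) inferInstance
  haveI : Fact p.Prime := ⟨hpp⟩
  have h1 : (TE S ^ p : VV F m ε ≃ₗ[F] VV F m ε) = 1 := by
    rw [TE_pow]
    have : p • S = 0 := by
      ext i j
      simp [CharP.cast_eq_zero F p]
    rw [this, TE_zero]
  have h2 := congrArg (LinearEquiv.det (R := F) (M := VV F m ε)) h1
  rw [map_pow, map_one] at h2
  have h3 := congrArg Units.val h2
  rw [Units.val_pow_eq_pow_val, LinearEquiv.coe_det, Units.val_one] at h3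
  have h4 : frobenius F p (LinearMap.det ((TE S : VV F m ε ≃ₗ[F] VV F m ε) : VV F m ε →ₗ[F] VV F m ε)) = frobenius F p 1 := by
    rw [frobenius_def, frobenius_def, h3, one_pow]
  exact frobenius_inj F p h4

lemma TE_pres {S : Matrix (Fin m) (Fin m) F} (hS : S ∈ Sk hF m) (x y : VV F m ε) :
    hJ hF (TE S x) (TE S y) = hJ hF x y := by
  have h1 : dg hF S = - S := by
    ext i j
    rw [dg_apply]
    have := hS i j
    simp only [Matrix.neg_apply]
    linear_combination this
  simp only [hJ, TE_apply, sq_add_left, sq_add_right]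
  rw [sq_mulVec hF S x.2.1 y.2.1, h1, Matrix.neg_mulVec]
  have h2 : sq hF x.2.1 (-(S *ᵥ y.2.1)) = - sq hF x.2.1 (S *ᵥ y.2.1) := by
    have : -(S *ᵥ y.2.1) = (-1 : F) • (S *ᵥ y.2.1) := by simp
    rw [this, sq_smul_right]
    simp
  rw [h2]
  ring

/-- `T_S` in the group. -/
noncomputable def TG (S : Sk hF m) : suGroup (hJ hF : VV F m ε → VV F m ε → F) :=
  ⟨TE S.1, mem_suGroup.mpr ⟨fun x y => TE_pres hF S.2 x y, TE_det _⟩⟩

lemma TG_add (S S' : Sk hF m) : (TG hF (S + S') : suGroup (hJ hF : VV F m ε → VV F m ε → F)) = TG hF S * TG hF S' := by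
  apply Subtype.ext
  show TE (S.1 + S'.1) = TE S.1 * TE S'.1
  rw [TE_mul]

lemma TG_zero : (TG hF (0 : Sk hF m) : suGroup (hJ hF : VV F m ε → VV F m ε → F)) = 1 := by
  apply Subtype.ext
  exact TE_zero

/-! ### The Levi elements -/

/-- The inverse conjugate transpose. -/
noncomputable def dgG (hF : Fintype.card F = q ^ 2) (R : GL (Fin m) F) : GL (Fin m) F where
  val := dg hF ((R⁻¹ : GL (Fin m) F) : Matrix (Fin m) (Fin m) F)
  inv := dg hF (R : Matrix (Fin m) (Fin m) F)
  val_inv := by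
    rw [← dg_mul, ← Units.val_mul, mul_inv_cancel, Units.val_one, dg_one]
  inv_val := by
    rw [← dg_mul, ← Units.val_mul, inv_mul_cancel, Units.val_one, dg_one]

lemma coe_dgG (R : GL (Fin m) F) : ((dgG hF R : GL (Fin m) F) : Matrix (Fin m) (Fin m) F) =
    dg hF ((R⁻¹ : GL (Fin m) F) : Matrix (Fin m) (Fin m) F) := rfl

/-- The Levi transformation. -/
noncomputable def gL (R : GL (Fin m) F) (d : Fˣ) : VV F m ε ≃ₗ[F] VV F m ε :=
  LinearEquiv.prodCongr (glToLin (dgG hF R))
    (LinearEquiv.prodCongr (glToLin R) (LinearEquiv.smulOfUnit d))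

lemma gL_apply (R : GL (Fin m) F) (d : Fˣ) (x : VV F m ε) :
    gL hF R d x = ((dgG hF R : GL (Fin m) F) *ᵥ x.1, (R : Matrix (Fin m) (Fin m) F) *ᵥ x.2.1, (d : F) • x.2.2) := rfl

lemma sq_dgG_left (R : GL (Fin m) F) (a b : Fin m → F) :
    sq hF ((dgG hF R : GL (Fin m) F) *ᵥ a) ((R : Matrix (Fin m) (Fin m) F) *ᵥ b) = sq hF a b := by
  rw [sq_mulVec, coe_dgG, dg_dg, Matrix.mulVec_mulVec, ← Units.val_mul, inv_mul_cancel, Units.val_one, Matrix.one_mulVec]

lemma sq_dgG_right (R : GL (Fin m) F) (a b : Fin m → F) :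
    sq hF ((R : Matrix (Fin m) (Fin m) F) *ᵥ a) ((dgG hF R : GL (Fin m) F) *ᵥ b) = sq hF a b := by
  rw [sq_mulVec, coe_dgG, Matrix.mulVec_mulVec, ← dg_mul, ← Units.val_mul, inv_mul_cancel, Units.val_one, dg_one,
    Matrix.one_mulVec]

lemma gL_pres (R : GL (Fin m) F) {d : Fˣ} (hd : (d : F) * frobHom hF (d : F) = 1) (x y : VV F m ε) :
    hJ hF (gL hF R d x) (gL hF R d y) = hJ hF x y := by
  simp only [hJ, gL_apply, sq_dgG_left, sq_dgG_right, sq_smul_left, sq_smul_right]
  linear_combination (sq hF x.2.2 y.2.2) * hd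

lemma det_dg (M : Matrix (Fin m) (Fin m) F) : (dg hF M).det = frobHom hF M.det := by
  unfold dg
  rw [Matrix.det_transpose, RingHom.map_det]
  rfl

lemma gL_det (R : GL (Fin m) F) (d : Fˣ) :
    LinearMap.det ((gL hF R d : VV F m ε ≃ₗ[F] VV F m ε) : VV F m ε →ₗ[F] VV F m ε) =
      frobHom hF ((R : Matrix (Fin m) (Fin m) F).det)⁻¹ * (R : Matrix (Fin m) (Fin m) F).det * (d : F) ^ ε := by
  have h1 : ((gL hF R d : VV F m ε ≃ₗ[F] VV F m ε) : VV F m ε →ₗ[F] VV F m ε) =
      LinearMap.prodMap (Matrix.toLin' ((dgG hF R : GL (Fin m) F) : Matrix (Fin m) (Fin m) F))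
        (LinearMap.prodMap (Matrix.toLin' (R : Matrix (Fin m) (Fin m) F)) ((d : F) • LinearMap.id)) := by
    ext x <;> rfl
  rw [h1, LinearMap.det_prodMap, LinearMap.det_prodMap, LinearMap.det_toLin', LinearMap.det_toLin',
    LinearMap.det_smul, LinearMap.det_id, Module.finrank_fin_fun, mul_one, coe_dgG, det_dg]
  have h2 : ((R⁻¹ : GL (Fin m) F) : Matrix (Fin m) (Fin m) F).det = ((R : Matrix (Fin m) (Fin m) F).det)⁻¹ := by
    have h3 : ((R⁻¹ : GL (Fin m) F) : Matrix (Fin m) (Fin m) F).det * (R : Matrix (Fin m) (Fin m) F).det = 1 := by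
      rw [← Matrix.det_mul, ← Units.val_mul, inv_mul_cancel, Units.val_one, Matrix.det_one]
    exact eq_inv_of_mul_eq_one_left h3
  rw [h2]
  ring

/-- The Levi element of the group. -/
noncomputable def LG (R : GL (Fin m) F) (d : Fˣ) (hd : (d : F) * frobHom hF (d : F) = 1)
    (hdet : (R : Matrix (Fin m) (Fin m) F).det * (d : F) ^ ε = frobHom hF (R : Matrix (Fin m) (Fin m) F).det) :
    suGroup (hJ hF : VV F m ε → VV F m ε → F) :=
  ⟨gL hF R d, mem_suGroup.mpr ⟨fun x y => gL_pres hF R hd x y, by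
    rw [gL_det, mul_assoc, hdet, map_inv₀]
    have : frobHom hF (R : Matrix (Fin m) (Fin m) F).det ≠ 0 := by
      rw [Ne, map_eq_zero]
      exact (Matrix.isUnits_det_units R).ne_zero
    field_simp⟩⟩

lemma gL_TE (R : GL (Fin m) F) (d : Fˣ) (S : Matrix (Fin m) (Fin m) F) (x : VV F m ε) :
    gL hF R d (TE S x) =
      TE (act hF ((dgG hF R : GL (Fin m) F) : Matrix (Fin m) (Fin m) F) S) (gL hF R d x) := by
  simp only [gL_apply, TE_apply]
  refine Prod.ext ?_ rfl
  simp only [Matrix.mulVec_add, act, coe_dgG, dg_dg, Matrix.mulVec_mulVec, Matrix.mul_assoc, ← Units.val_mul, inv_mul_cancel,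
    Units.val_one, Matrix.mul_one]

end Cfsg.Agent.Lib.SUDeg.Model
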