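import Cfsg.Agent.Lib.HermCount.Field
import Mathlib

/-!
Skew-Hermitian matrices over the field with `q²` elements and the orbits of subgroups of `GL_m` on
them: a nonzero skew-Hermitian matrix has at least `(q^{2m} - 1)/(q + 1)` images.
-/

set_option autoImplicit false
set_option linter.unusedSectionVars false
set_option linter.unusedVariables false

namespace Cfsg.Agent.Lib.SUDeg.Orbit

open Module Matrix Cfsg.Agent.Lib.HermCount.Field
open scoped Classical

attribute [-simp] frobHom_apply

variable {F : Type*} [Field F] [Fintype F] {q : ℕ} (hF : Fintype.card F = q ^ 2) {m : ℕ}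

/-- The conjugate transpose. -/
def dg (hF : Fintype.card F = q ^ 2) (M : Matrix (Fin m) (Fin m) F) : Matrix (Fin m) (Fin m) F :=
  (M.map (frobHom hF))ᵀ

lemma dg_apply (M : Matrix (Fin m) (Fin m) F) (i j : Fin m) : dg hF M i j = frobHom hF (M j i) := rfl

lemma dg_mul (M N : Matrix (Fin m) (Fin m) F) : dg hF (M * N) = dg hF N * dg hF M := by
  ext i j
  simp only [dg_apply, Matrix.mul_apply, map_sum, map_mul]
  refine Finset.sum_congr rfl fun k _ => ?_
  ring

lemma dg_one : dg hF (1 : Matrix (Fin m) (Fin m) F) = 1 := by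
  ext i j
  rw [dg_apply]
  by_cases h : j = i
  · subst h; rw [Matrix.one_apply_eq, map_one]
  · rw [Matrix.one_apply_ne h, Matrix.one_apply_ne (Ne.symm h), map_zero]

lemma dg_dg (M : Matrix (Fin m) (Fin m) F) : dg hF (dg hF M) = M := by
  ext i j
  simp only [dg_apply, frobHom_apply]
  exact frob_frob hF _

lemma dg_add (M N : Matrix (Fin m) (Fin m) F) : dg hF (M + N) = dg hF M + dg hF N := by
  ext i j
  simp [dg_apply]

/-- The skew-Hermitian matrices. -/
def Sk (hF : Fintype.card F = q ^ 2) (m : ℕ) : AddSubgroup (Matrix (Fin m) (Fin m) F) where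
  carrier := {S | ∀ i j, S i j + frobHom hF (S j i) = 0}
  add_mem' := by
    intro a b ha hb i j
    have h1 := ha i j
    have h2 := hb i j
    simp only [Matrix.add_apply, map_add]
    linear_combination h1 + h2
  zero_mem' := by
    intro i j
    simp
  neg_mem' := by
    intro a ha i j
    have h1 := ha i j
    simp only [Matrix.neg_apply, map_neg]
    linear_combination -h1

lemma mem_Sk {S : Matrix (Fin m) (Fin m) F} : S ∈ Sk hF m ↔ ∀ i j, S i j + frobHom hF (S j i) = 0 := Iff.rfl

noncomputable instance : Fintype (Sk hF m) := Fintype.ofFinite _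

/-- The value of the form. -/
def Phi (hF : Fintype.card F = q ^ 2) (S : Matrix (Fin m) (Fin m) F) (x y : Fin m → F) : F :=
  x ⬝ᵥ (S *ᵥ (fun j => frobHom hF (y j)))

lemma Phi_apply (S : Matrix (Fin m) (Fin m) F) (x y : Fin m → F) :
    Phi hF S x y = ∑ i, ∑ j, x i * (S i j * frobHom hF (y j)) := by
  simp only [Phi, dotProduct, mulVec, Finset.mul_sum]

lemma Phi_add_left (S : Matrix (Fin m) (Fin m) F) (x x' y : Fin m → F) :
    Phi hF S (x + x') y = Phi hF S x y + Phi hF S x' y := by
  simp only [Phi, add_dotProduct]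

lemma Phi_smul_left (S : Matrix (Fin m) (Fin m) F) (t : F) (x y : Fin m → F) :
    Phi hF S (t • x) y = t * Phi hF S x y := by
  simp only [Phi, smul_dotProduct, smul_eq_mul]

lemma Phi_add_right (S : Matrix (Fin m) (Fin m) F) (x y y' : Fin m → F) :
    Phi hF S x (y + y') = Phi hF S x y + Phi hF S x y' := by
  simp only [Phi_apply, Pi.add_apply, map_add, mul_add, Finset.sum_add_distrib]

lemma Phi_smul_right (S : Matrix (Fin m) (Fin m) F) (t : F) (x y : Fin m → F) :
    Phi hF S x (t • y) = frobHom hF t * Phi hF S x y := by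
  simp only [Phi_apply, Pi.smul_apply, smul_eq_mul, map_mul, Finset.mul_sum]
  refine Finset.sum_congr rfl fun i _ => Finset.sum_congr rfl fun j _ => ?_
  ring

lemma Phi_swap {S : Matrix (Fin m) (Fin m) F} (hS : S ∈ Sk hF m) (x y : Fin m → F) :
    Phi hF S y x = - frobHom hF (Phi hF S x y) := by
  simp only [Phi_apply, map_sum, map_mul, ← Finset.sum_neg_distrib]
  rw [Finset.sum_comm]
  refine Finset.sum_congr rfl fun i _ => Finset.sum_congr rfl fun j _ => ?_
  have h1 : frobHom hF (frobHom hF (y j)) = y j := frob_frob hF _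
  have h2 := hS j i
  rw [h1]
  linear_combination (y j * frobHom hF (x i)) * h2

lemma Phi_self_pure {S : Matrix (Fin m) (Fin m) F} (hS : S ∈ Sk hF m) (x : Fin m → F) :
    Phi hF S x x + frobHom hF (Phi hF S x x) = 0 := by
  have := Phi_swap hF hS x x
  linear_combination this

/-- The action on skew-Hermitian matrices. -/
def act (hF : Fintype.card F = q ^ 2) (R S : Matrix (Fin m) (Fin m) F) : Matrix (Fin m) (Fin m) F :=
  R * S * dg hF R

lemma act_mem {S : Matrix (Fin m) (Fin m) F} (hS : S ∈ Sk hF m) (R : Matrix (Fin m) (Fin m) F) :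
    act hF R S ∈ Sk hF m := by
  have h1 : ∀ i j, (dg hF S) i j = - S i j := by
    intro i j
    rw [dg_apply]
    have := hS i j
    linear_combination this
  have h2 : dg hF S = - S := by
    ext i j
    rw [h1]; rfl
  intro i j
  have h3 : frobHom hF (act hF R S j i) = dg hF (act hF R S) i j := (dg_apply hF _ i j).symm
  rw [h3]
  have h4 : dg hF (act hF R S) = - act hF R S := by
    unfold act
    rw [dg_mul, dg_mul, dg_dg, h2, Matrix.neg_mul, Matrix.mul_neg, Matrix.mul_assoc]
  rw [h4]
  simp

lemma act_act (R R' S : Matrix (Fin m) (Fin m) F) : act hF R (act hF R' S) = act hF (R * R') S := by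
  unfold act
  rw [dg_mul]
  simp only [Matrix.mul_assoc]

lemma act_one (S : Matrix (Fin m) (Fin m) F) : act hF 1 S = S := by
  unfold act
  rw [dg_one]; simp

lemma Phi_act (R S : Matrix (Fin m) (Fin m) F) (x y : Fin m → F) :
    Phi hF (act hF R S) x y = Phi hF S (x ᵥ* R) (y ᵥ* R) := by
  have h1 : (fun j => frobHom hF ((y ᵥ* R) j)) = dg hF R *ᵥ (fun j => frobHom hF (y j)) := by
    funext j
    simp only [vecMul, dotProduct, mulVec, map_sum, map_mul, dg_apply]
    refine Finset.sum_congr rfl fun k _ => ?_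
    ring
  unfold Phi act
  rw [h1, ← Matrix.mulVec_mulVec, ← Matrix.mulVec_mulVec, Matrix.dotProduct_mulVec]

lemma Phi_single (S : Matrix (Fin m) (Fin m) F) (i : Fin m) :
    Phi hF S (Pi.single i 1) (Pi.single i 1) = S i i := by
  classical
  rw [Phi_apply, Finset.sum_eq_single i, Finset.sum_eq_single i]
  · simp
  · intro j _ hj
    simp [hj]
  · simp
  · intro j _ hj
    simp [hj]
  · simp

lemma exists_Phi_ne {S : Matrix (Fin m) (Fin m) F} (hS : S ∈ Sk hF m) (h0 : S ≠ 0) :
    ∃ x, Phi hF S x x ≠ 0 := by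
  classical
  by_contra hcon
  push Not at hcon
  apply h0
  ext i j
  by_cases hij : i = j
  · subst hij
    have := hcon (Pi.single i 1)
    rwa [Phi_single] at this
  · obtain ⟨z, hz⟩ := exists_frob_ne hF
    by_contra hne
    change S i j ≠ 0 at hne
    -- polarise
    have hpol : ∀ x y, Phi hF S x y + Phi hF S y x = 0 := by
      intro x y
      have h1 := hcon (x + y)
      rw [Phi_add_left, Phi_add_right, Phi_add_right, hcon x, hcon y] at h1
      linear_combination h1
    have hval : Phi hF S (Pi.single i 1) (Pi.single j 1) = S i j := by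
      rw [Phi_apply, Finset.sum_eq_single i, Finset.sum_eq_single j]
      · simp
      · intro k _ hk
        simp [hk]
      · simp
      · intro k _ hk
        simp [hk]
      · simp
    set y : F := S i j with hy
    set t : F := z / y with ht
    have h1 := hpol (t • Pi.single i 1) (Pi.single j 1)
    rw [Phi_smul_left, Phi_smul_right, Phi_swap hF hS (Pi.single i 1) (Pi.single j 1), hval] at h1
    have e : t * y = z := by
      rw [ht]; field_simp
    have e2 : frobHom hF t * frobHom hF y = frobHom hF z := by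
      rw [← map_mul, e]
    have h5 : z - frobHom hF z = 0 := by
      linear_combination h1 - e + e2
    apply hz
    rw [frobHom_apply] at h5
    exact (sub_eq_zero.mp h5).symm

/-- The norm fibres. -/
lemma card_norm_le (r : F) : (Finset.univ.filter (fun t : F => t * frobHom hF t = r)).card ≤ q + 1 := by
  classical
  have hq2 := two_le hF
  by_cases h0 : r = 0
  · subst h0
    have : Finset.univ.filter (fun t : F => t * frobHom hF t = 0) ⊆ {0} := by
      intro t ht
      simp only [Finset.mem_filter, Finset.mem_univ, true_and] at ht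
      rw [frobHom_apply] at ht
      rcases mul_eq_zero.mp ht with h | h
      · simp [h]
      · simp [(pow_eq_zero_iff (by omega : q ≠ 0)).mp h]
    calc _ ≤ ({0} : Finset F).card := Finset.card_le_card this
      _ ≤ q + 1 := by simp
  · by_cases hr : r ^ q = r
    · have h1 := card_norm_fiber hF r hr h0
      have e : ∀ t : F, t * frobHom hF t = t ^ (q + 1) := by
        intro t
        rw [frobHom_apply, pow_succ, mul_comm]
      simp only [e]
      rw [Nat.card_eq_fintype_card, Fintype.card_subtype] at h1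
      exact h1.le
    · have : Finset.univ.filter (fun t : F => t * frobHom hF t = r) = ∅ := by
        apply Finset.filter_eq_empty_iff.mpr
        intro t _ ht
        apply hr
        rw [← ht, frobHom_apply, mul_pow, ← pow_mul, ← sq, ]
        rw [← hF, FiniteField.pow_card, mul_comm]
      rw [this]; simp

/-- The number of solutions of `Φ(x, x) = c`. -/
lemma card_Phi_le {S : Matrix (Fin m) (Fin m) F} (hS : S ∈ Sk hF m) (h0 : S ≠ 0) (c : F) (hm : 1 ≤ m) :
    (Finset.univ.filter (fun x : Fin m → F => Phi hF S x x = c)).card ≤ (q + 1) * q ^ (2 * (m - 1)) := by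
  classical
  obtain ⟨e, he⟩ := exists_Phi_ne hF hS h0
  set c1 := Phi hF S e e with hc1
  -- the linear functional
  let L : (Fin m → F) →ₗ[F] F :=
    { toFun := fun x => Phi hF S x e
      map_add' := fun x y => Phi_add_left hF S x y e
      map_smul' := fun t x => by simp [Phi_smul_left] }
  have hL : ∀ x, L x = Phi hF S x e := fun _ => rfl
  have hLe : L e = c1 := rfl
  have hsurj : Function.Surjective L := by
    intro t
    refine ⟨(t / c1) • e, ?_⟩
    rw [map_smul, hLe, smul_eq_mul]
    field_simp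
  have hrank : finrank F (LinearMap.ker L) = m - 1 := by
    have := LinearMap.finrank_range_add_finrank_ker L
    rw [LinearMap.range_eq_top.mpr hsurj, finrank_top, Module.finrank_self, Module.finrank_fin_fun] at this
    omega
  have hcardker : Fintype.card (LinearMap.ker L) = q ^ (2 * (m - 1)) := by
    have := Module.card_eq_pow_finrank (K := F) (V := LinearMap.ker L)
    rw [this, hrank, hF, ← pow_mul]
  let f : (Fin m → F) → (Fin m → F) := fun x => x - (L x / c1) • e
  have hfker : ∀ x, f x ∈ LinearMap.ker L := by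
    intro x
    rw [LinearMap.mem_ker]
    simp only [f, map_sub, map_smul, hLe, smul_eq_mul]
    field_simp
    ring
  set s := Finset.univ.filter (fun x : Fin m → F => Phi hF S x x = c) with hs
  have hbound := Finset.card_le_mul_card_image (f := f) s (q + 1) (by
    intro y hy
    -- the fibre
    have hyker : y ∈ LinearMap.ker L := by
      obtain ⟨x, _, rfl⟩ := Finset.mem_image.mp hy
      exact hfker x
    have hLy : Phi hF S y e = 0 := hyker
    have hLy' : Phi hF S e y = 0 := by
      rw [Phi_swap hF hS y e, hLy]; simp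
    have hval : ∀ t : F, Phi hF S (y + t • e) (y + t • e) = Phi hF S y y + t * frobHom hF t * c1 := by
      intro t
      rw [Phi_add_left, Phi_add_right, Phi_add_right, Phi_smul_left, Phi_smul_left, Phi_smul_right, Phi_smul_right,
        hLy, hLy', ← hc1]
      ring
    calc (s.filter (fun x => f x = y)).card
        ≤ (Finset.univ.filter (fun t : F => t * frobHom hF t = (c - Phi hF S y y) / c1)).card := by
          apply Finset.card_le_card_of_injOn (fun x => L x / c1)
          · intro x hx
            simp only [Finset.coe_filter, Finset.mem_filter, Finset.mem_univ, true_and, hs, Set.mem_ofPred_eq] at hx ⊢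
            obtain ⟨h1, h2⟩ := hx
            have h3 : x = y + (L x / c1) • e := by
              rw [← h2]
              simp [f]
            have h4 := hval (L x / c1)
            rw [← h3, h1] at h4
            rw [eq_div_iff he]
            linear_combination -h4
          · intro x hx x' hx' hxx
            simp only [Finset.coe_filter, Finset.mem_filter, Finset.mem_univ, true_and, hs, Set.mem_ofPred_eq] at hx hx'
            have h3 : x = y + (L x / c1) • e := by
              rw [← hx.2]
              simp [f]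
            have h3' : x' = y + (L x' / c1) • e := by
              rw [← hx'.2]
              simp [f]
            simp only at hxx
            rw [h3, h3', hxx]
      _ ≤ q + 1 := card_norm_le hF _)
  refine hbound.trans (Nat.mul_le_mul_left _ ?_)
  rw [← hcardker]
  have himg : ((s.image f)) ⊆ (Finset.univ.filter (fun y => y ∈ LinearMap.ker L)) := by
    intro y hy
    obtain ⟨x, _, rfl⟩ := Finset.mem_image.mp hy
    simpa using hfker x
  refine (Finset.card_le_card himg).trans ?_
  rw [Fintype.card_subtype]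

section Count

variable (Γ : Subgroup (GL (Fin m) F)) (i0 : Fin m)

/-- The orbit. -/
noncomputable def orb (S0 : Matrix (Fin m) (Fin m) F) : Finset (Matrix (Fin m) (Fin m) F) :=
  Finset.univ.filter (fun S => ∃ R ∈ Γ, S = act hF (R : Matrix (Fin m) (Fin m) F) S0)

lemma mem_orb {S0 S : Matrix (Fin m) (Fin m) F} :
    S ∈ orb hF Γ S0 ↔ ∃ R ∈ Γ, S = act hF (R : Matrix (Fin m) (Fin m) F) S0 := by
  simp [orb]

lemma orb_act {S0 S : Matrix (Fin m) (Fin m) F} (hS : S ∈ orb hF Γ S0) {R : GL (Fin m) F} (hR : R ∈ Γ) :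
    act hF (R : Matrix (Fin m) (Fin m) F) S ∈ orb hF Γ S0 := by
  rw [mem_orb] at hS ⊢
  obtain ⟨R', hR', rfl⟩ := hS
  exact ⟨R * R', Γ.mul_mem hR hR', by rw [act_act]; rfl⟩

lemma act_ne_zero {S : Matrix (Fin m) (Fin m) F} (h0 : S ≠ 0) (R : GL (Fin m) F) :
    act hF (R : Matrix (Fin m) (Fin m) F) S ≠ 0 := by
  intro h
  apply h0
  have h1 := congrArg (act hF ((R⁻¹ : GL (Fin m) F) : Matrix (Fin m) (Fin m) F)) h
  rw [act_act] at h1
  have h2 : ((R⁻¹ : GL (Fin m) F) : Matrix (Fin m) (Fin m) F) * (R : Matrix (Fin m) (Fin m) F) = 1 := by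
    rw [← Units.val_mul, inv_mul_cancel]; rfl
  rw [h2, act_one] at h1
  rw [h1]
  simp [act]

/-- The unipotent element `1 + u eᵢ₀ᵀ`. -/
def Bu (i0 : Fin m) (u : Fin m → F) : Matrix (Fin m) (Fin m) F := 1 + Matrix.of (fun j k => if k = i0 then u j else 0)

lemma Bu_row (u : Fin m → F) (hu : u i0 = 0) : (Pi.single i0 1 : Fin m → F) ᵥ* Bu i0 u = Pi.single i0 1 := by
  funext k
  simp only [vecMul, dotProduct, Bu, Matrix.add_apply, Matrix.of_apply]
  rw [Finset.sum_eq_single i0]
  · by_cases hk : k = i0
    · subst hk; simp [hu]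
    · simp [hk, Matrix.one_apply, Ne.symm hk, Pi.single_apply]
  · intro j _ hj
    simp [hj]
  · simp

lemma Bu_mul (u v : Fin m → F) (hv : v i0 = 0) : Bu i0 u * Bu i0 v = Bu i0 (u + v) := by
  ext j k
  simp only [Bu, Matrix.mul_apply, Matrix.add_apply, Matrix.of_apply, Pi.add_apply]
  by_cases hk : k = i0
  · subst hk
    simp [Finset.sum_add_distrib, add_mul, mul_add, Matrix.one_apply, hv, Finset.sum_ite_eq, Finset.sum_ite_eq']
    ring
  · simp [Finset.sum_add_distrib, add_mul, mul_add, Matrix.one_apply, hk, Finset.sum_ite_eq, Finset.sum_ite_eq', hv, Ne.symm hk]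

lemma Bu_zero : Bu i0 (0 : Fin m → F) = 1 := by
  ext j k
  simp [Bu]

/-- The invertible matrix `Bu`. -/
def BuG (i0 : Fin m) (u : Fin m → F) (hu : u i0 = 0) : GL (Fin m) F where
  val := Bu i0 u
  inv := Bu i0 (-u)
  val_inv := by rw [Bu_mul i0 u (-u) (by simp [hu]), add_neg_cancel, Bu_zero]
  inv_val := by rw [Bu_mul i0 (-u) u hu, neg_add_cancel, Bu_zero]

@[simp] lemma coe_BuG (u : Fin m → F) (hu : u i0 = 0) :
    ((BuG i0 u hu : GL (Fin m) F) : Matrix (Fin m) (Fin m) F) = Bu i0 u := rfl

lemma det_Bu (u : Fin m → F) (hu : u i0 = 0) : (Bu i0 u).det = 1 := by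
  have h1 : Bu i0 u = 1 + Matrix.replicateCol Unit u * Matrix.replicateRow Unit (Pi.single i0 (1 : F)) := by
    unfold Bu
    congr 1
    ext j k
    by_cases hk : k = i0
    · subst hk; simp [Matrix.mul_apply]
    · simp [Matrix.mul_apply, hk, Pi.single_apply]
  rw [h1, Matrix.det_one_add_replicateCol_mul_replicateRow]
  simp [hu]

lemma act_Bu_entry {S : Matrix (Fin m) (Fin m) F} (u : Fin m → F) (hu : u i0 = 0) (j : Fin m) :
    act hF (Bu i0 u) S j i0 = S j i0 + u j * S i0 i0 := by
  classical
  unfold act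
  rw [Matrix.mul_apply, Finset.sum_eq_single i0]
  · have h1 : dg hF (Bu i0 u) i0 i0 = 1 := by
      rw [dg_apply]
      simp [Bu, hu]
    rw [h1, mul_one, Matrix.mul_apply]
    simp only [Bu, Matrix.add_apply, Matrix.of_apply, add_mul, Finset.sum_add_distrib]
    simp [Matrix.one_apply, Finset.sum_ite_eq, Finset.sum_ite_eq']
  · intro k _ hk
    have h1 : dg hF (Bu i0 u) k i0 = 0 := by
      rw [dg_apply]
      simp [Bu, Matrix.one_apply, hk, Ne.symm hk]
    rw [h1, mul_zero]
  · simp

lemma orb_act_Bu {S0 S : Matrix (Fin m) (Fin m) F} (hS : S ∈ orb hF Γ S0) {u : Fin m → F} {hu : u i0 = 0}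
    (hR : BuG i0 u hu ∈ Γ) : act hF (Bu i0 u) S ∈ orb hF Γ S0 := by
  have h := orb_act hF Γ hS hR
  rwa [coe_BuG] at h

include hF in
lemma card_u (hm : 1 ≤ m) (i0 : Fin m) : Fintype.card {u : Fin m → F // u i0 = 0} = q ^ (2 * (m - 1)) := by
  classical
  let e : {u : Fin m → F // u i0 = 0} ≃ ({j : Fin m // j ≠ i0} → F) :=
    { toFun := fun u j => u.1 j
      invFun := fun f => ⟨fun j => if h : j = i0 then 0 else f ⟨j, h⟩, by simp⟩
      left_inv := by
        rintro ⟨u, hu⟩
        apply Subtype.ext
        funext j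
        by_cases h : j = i0
        · subst h; simp [hu]
        · simp [h]
      right_inv := by
        intro f
        funext j
        simp [j.2] }
  rw [Fintype.card_congr e, Fintype.card_fun, hF, Fintype.card_subtype_compl, Fintype.card_fin, ← pow_mul]
  simp

/-- **The orbit bound.** -/
theorem orbit_bound (hm : 1 ≤ m) (htrans : ∀ v : Fin m → F, v ≠ 0 → ∃ R ∈ Γ, v ᵥ* (R : Matrix (Fin m) (Fin m) F) = Pi.single i0 1)
    (huni : ∀ (u : Fin m → F) (hu : u i0 = 0), BuG i0 u hu ∈ Γ)
    {S0 : Matrix (Fin m) (Fin m) F} (hS0 : S0 ∈ Sk hF m) (h0 : S0 ≠ 0) :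
    q ^ (2 * m) - 1 ≤ (orb hF Γ S0).card * (q + 1) := by
  classical
  have hq2 := two_le hF
  obtain ⟨v0, hv0⟩ := exists_Phi_ne hF hS0 h0
  set c0 := Phi hF S0 v0 v0 with hc0
  set O := orb hF Γ S0 with hO
  have hOmem : ∀ S ∈ O, S ∈ Sk hF m ∧ S ≠ 0 := by
    intro S hS
    rw [hO, mem_orb] at hS
    obtain ⟨R, _, rfl⟩ := hS
    exact ⟨act_mem hF hS0 _, act_ne_zero hF h0 R⟩
  let vs : Finset (Fin m → F) := Finset.univ.filter (fun v => v ≠ 0)
  have hvs : vs.card = q ^ (2 * m) - 1 := by
    have h1 : vs = (Finset.univ : Finset (Fin m → F)).erase 0 := by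
      ext v; simp [vs]
    rw [h1, Finset.card_erase_of_mem (Finset.mem_univ _), Finset.card_univ, Fintype.card_fun, hF,
      Fintype.card_fin, ← pow_mul]
  -- the upper bound
  have hup : ∀ S ∈ O, (vs.filter (fun v => Phi hF S v v = c0)).card ≤ (q + 1) * q ^ (2 * (m - 1)) := by
    intro S hS
    have h1 := card_Phi_le hF (hOmem S hS).1 (hOmem S hS).2 c0 hm
    refine (Finset.card_le_card ?_).trans h1
    intro v hv
    simp only [Finset.mem_filter] at hv ⊢
    exact ⟨Finset.mem_univ _, hv.2⟩
  -- the lower bound at `e`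
  set e : Fin m → F := Pi.single i0 1 with he
  have hvne : v0 ≠ 0 := by
    intro h
    apply hv0
    rw [hc0, h]
    simp [Phi]
  obtain ⟨R0, hR0, hR0v⟩ := htrans v0 hvne
  have hinv : e ᵥ* ((R0⁻¹ : GL (Fin m) F) : Matrix (Fin m) (Fin m) F) = v0 := by
    rw [← hR0v, Matrix.vecMul_vecMul]
    have : (R0 : Matrix (Fin m) (Fin m) F) * ((R0⁻¹ : GL (Fin m) F) : Matrix (Fin m) (Fin m) F) = 1 := by
      rw [← Units.val_mul, mul_inv_cancel]; rfl
    rw [this, Matrix.vecMul_one]
  set S1 := act hF ((R0⁻¹ : GL (Fin m) F) : Matrix (Fin m) (Fin m) F) S0 with hS1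
  have hS1O : S1 ∈ O := by
    rw [hO, mem_orb]
    exact ⟨R0⁻¹, Γ.inv_mem hR0, rfl⟩
  have hS1val : S1 i0 i0 = c0 := by
    rw [← Phi_single hF S1 i0, hS1, Phi_act, ← he, hinv]
  have hlow0 : q ^ (2 * (m - 1)) ≤ (O.filter (fun S => Phi hF S e e = c0)).card := by
    -- the family `Bu`
    have hcard := card_u hF hm i0
    rw [← hcard]
    rw [← Finset.card_univ]
    apply Finset.card_le_card_of_injOn (fun u => act hF (Bu i0 u.1) S1)
    · intro u _
      simp only [Finset.coe_filter, Set.mem_ofPred_eq]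
      have hmem : act hF (Bu i0 u.1) S1 ∈ O := orb_act_Bu hF Γ i0 hS1O (huni u.1 u.2)
      refine ⟨hmem, ?_⟩
      rw [Phi_act, he, Bu_row i0 u.1 u.2, Phi_single, hS1val]
    · intro u _ u' _ huu
      apply Subtype.ext
      funext j
      have h1 := congrFun (congrFun huu j) i0
      simp only at h1
      rw [act_Bu_entry hF i0 u.1 u.2, act_Bu_entry hF i0 u'.1 u'.2, hS1val] at h1
      have hc0ne : c0 ≠ 0 := hv0
      have h2 : (u.1 j - u'.1 j) * c0 = 0 := by linear_combination h1
      rcases mul_eq_zero.mp h2 with h3 | h3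
      · exact sub_eq_zero.mp h3
      · exact absurd h3 hc0ne
  have hlow : ∀ v ∈ vs, q ^ (2 * (m - 1)) ≤ (O.filter (fun S => Phi hF S v v = c0)).card := by
    intro v hv
    have hv' : v ≠ 0 := by simpa [vs] using hv
    obtain ⟨R, hR, hRv⟩ := htrans v hv'
    refine hlow0.trans ?_
    apply Finset.card_le_card_of_injOn (fun S => act hF (R : Matrix (Fin m) (Fin m) F) S)
    · intro S hS
      simp only [Finset.coe_filter, Set.mem_ofPred_eq] at hS ⊢
      refine ⟨orb_act hF Γ hS.1 hR, ?_⟩
      rw [Phi_act, hRv]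
      exact hS.2
    · intro S _ S' _ hSS
      have h1 := congrArg (act hF ((R⁻¹ : GL (Fin m) F) : Matrix (Fin m) (Fin m) F)) hSS
      simp only at h1
      rw [act_act, act_act] at h1
      have h2 : ((R⁻¹ : GL (Fin m) F) : Matrix (Fin m) (Fin m) F) * (R : Matrix (Fin m) (Fin m) F) = 1 := by
        rw [← Units.val_mul, inv_mul_cancel]; rfl
      rwa [h2, act_one, act_one] at h1
  -- double counting
  have hdc := Finset.sum_card_bipartiteAbove_eq_sum_card_bipartiteBelow (s := O) (t := vs)
    (fun S v => Phi hF S v v = c0)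
  simp only [Finset.bipartiteAbove, Finset.bipartiteBelow] at hdc
  have h1 : ∑ S ∈ O, (vs.filter (fun v => Phi hF S v v = c0)).card ≤ O.card * ((q + 1) * q ^ (2 * (m - 1))) := by
    calc _ ≤ ∑ _S ∈ O, ((q + 1) * q ^ (2 * (m - 1))) := Finset.sum_le_sum hup
      _ = _ := by simp
  have h2 : vs.card * q ^ (2 * (m - 1)) ≤ ∑ v ∈ vs, (O.filter (fun S => Phi hF S v v = c0)).card := by
    calc _ = ∑ _v ∈ vs, q ^ (2 * (m - 1)) := by simp
      _ ≤ _ := Finset.sum_le_sum hlow
  rw [← hdc] at h2
  have h3 : vs.card * q ^ (2 * (m - 1)) ≤ (O.card * (q + 1)) * q ^ (2 * (m - 1)) := by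
    calc _ ≤ _ := h2.trans h1
      _ = _ := by ring
  rw [hvs] at h3
  exact Nat.le_of_mul_le_mul_right h3 (by positivity)

end Count

end Cfsg.Agent.Lib.SUDeg.Orbit
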